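/-
helper77: project BT (S2154, Borel–Tits; sheet by helper35), module [Q-CONVEX]: `sq_le_Q`, `Q_mid_lt`.
-/
import Cfsg.Agent.Lib.Helper35.BT.Defs

set_option autoImplicit false

namespace Cfsg.Agent.Lib.Helper77.BT

open Cfsg Cfsg.Lie Cfsg.Agent.Lib.Helper18 Cfsg.Agent.Lib.Helper61.ChevJ Matrix
open Cfsg.Agent.Lib.Helper35.BT

universe u

variable {D : ChevalleyDatum}

/-- The value of `y` on the `i`-th fundamental root is `y i` (own copy of [ROOT-A] `om_simple`). -/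
theorem om_simple_h77 (Bd : BTData.{u} D) (y : Y D) (i : Fin D.rank) : om Bd.X y (D.simple i) = y i := by
  unfold om rv
  have hterm : ∀ k : Fin D.rank,
      ((rcAt Bd.X.rcT Bd.X.C.T.rank (D.simple i) k : ℤ) : ℝ) * y k = if k = i then y k else 0 := by
    intro k
    rw [Bd.hsimple i i.2 k k.2]
    by_cases h : k = i
    · subst h
      simp
    · have h' : (k : ℕ) ≠ (i : ℕ) := fun e => h (Fin.ext e)
      simp [h, h']
  rw [Finset.sum_congr rfl fun k _ => hterm k]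
  simp

/-- Every term of `Q` is non-negative, and the term of the `k`-th fundamental root is `(y k)^2`. -/
theorem sq_le_Q_h77 (Bd : BTData.{u} D) (y : Y D) (k : Fin D.rank) : (y k) ^ 2 ≤ Q Bd.X y := by
  unfold Q
  have hlt : D.simple k ∈ Finset.range D.nroots := Finset.mem_range.mpr (Bd.X.C.simple_lt k k.2)
  have h := Finset.single_le_sum (f := fun r => (om Bd.X y r) ^ 2) (fun r _ => sq_nonneg _) hlt
  simp only [om_simple_h77] at h
  exact h

/-- The parallelogram identity for `Q`. -/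
theorem Q_mid_h77 (X : JData.{u} D) (y z : Y D) :
    Q X ((1 / 2 : ℝ) • y + (1 / 2 : ℝ) • z) = (Q X y + Q X z) / 2 - Q X ((1 / 2 : ℝ) • y + (-1 / 2 : ℝ) • z) := by
  unfold Q
  rw [← Finset.sum_add_distrib, Finset.sum_div, ← Finset.sum_sub_distrib]
  refine Finset.sum_congr rfl fun r _ => ?_
  rw [om_add, om_add, om_smul, om_smul, om_smul]
  ring

end Cfsg.Agent.Lib.Helper77.BT

namespace Cfsg.Agent.Lib.Helper35.BT

open Cfsg Cfsg.Lie Cfsg.Agent.Lib.Helper18 Cfsg.Agent.Lib.Helper61.ChevJ Matrix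

universe u

variable {D : ChevalleyDatum}

theorem sq_le_Q (Bd : BTData.{u} D) (y : Y D) (k : Fin D.rank) : (y k) ^ 2 ≤ Q Bd.X y :=
  Cfsg.Agent.Lib.Helper77.BT.sq_le_Q_h77 Bd y k

theorem Q_mid_lt (Bd : BTData.{u} D) (y z : Y D) (hne : y ≠ z) (hQ : Q Bd.X z = Q Bd.X y) :
    Q Bd.X ((1 / 2 : ℝ) • y + (1 / 2 : ℝ) • z) < Q Bd.X y := by
  rw [Cfsg.Agent.Lib.Helper77.BT.Q_mid_h77, hQ]
  obtain ⟨k, hk⟩ : ∃ k, y k ≠ z k := by
    by_contra hcon
    exact hne (funext fun k => not_not.mp fun h => hcon ⟨k, h⟩)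
  have h1 := sq_le_Q Bd ((1 / 2 : ℝ) • y + (-1 / 2 : ℝ) • z) k
  have h2 : 0 < (((1 / 2 : ℝ) • y + (-1 / 2 : ℝ) • z) k) ^ 2 := by
    apply sq_pos_of_ne_zero
    simp only [Pi.add_apply, Pi.smul_apply, smul_eq_mul]
    intro h0
    apply hk
    linarith
  linarith

end Cfsg.Agent.Lib.Helper35.BT
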