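/-
helper77: project BT (S2154, Borel–Tits; sheet by helper35), module [Q-MIN]: `isClosed_fil`, `exists_min_Q`.
-/
import Cfsg.Agent.Lib.Helper77.BT.QConvex

set_option autoImplicit false

namespace Cfsg.Agent.Lib.Helper77.BT

/-- A closed non-empty set of `Fin n → ℝ` contains a minimum of a continuous function dominating the squares of the
coordinates. -/
theorem exists_min_of_coercive {n : ℕ} (Q : (Fin n → ℝ) → ℝ) (hQc : Continuous Q)
    (hQ : ∀ y k, (y k) ^ 2 ≤ Q y) (S : Set (Fin n → ℝ)) (hS : IsClosed S) (hne : S.Nonempty) :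
    ∃ y ∈ S, ∀ z ∈ S, Q y ≤ Q z := by
  obtain ⟨y0, hy0⟩ := hne
  set R : ℝ := Real.sqrt (Q y0) with hR
  set K : Set (Fin n → ℝ) := S ∩ {y | Q y ≤ Q y0} with hK
  have hKc : IsClosed K := hS.inter (isClosed_le hQc continuous_const)
  have hbox : IsCompact (Set.pi Set.univ fun _ : Fin n => Set.Icc (-R) R) :=
    isCompact_univ_pi fun _ => isCompact_Icc
  have hsub : K ⊆ Set.pi Set.univ fun _ : Fin n => Set.Icc (-R) R := by
    intro y hy k _
    have h1 : (y k) ^ 2 ≤ Q y0 := (hQ y k).trans hy.2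
    have h2 : |y k| ≤ R := by
      rw [hR]
      exact Real.abs_le_sqrt h1
    exact abs_le.mp h2
  have hKcomp : IsCompact K := hbox.of_isClosed_subset hKc hsub
  have hKne : K.Nonempty := ⟨y0, hy0, show Q y0 ≤ Q y0 from le_refl _⟩
  obtain ⟨y, hyK, hmin⟩ := hKcomp.exists_isMinOn hKne hQc.continuousOn
  refine ⟨y, hyK.1, fun z hz => ?_⟩
  by_cases hzK : Q z ≤ Q y0
  · exact hmin ⟨hz, hzK⟩
  · exact (hyK.2.trans (not_le.mp hzK).le)

/-- The set of `y` satisfying a family of non-strict linear inequalities is closed. -/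
theorem isClosed_linear_ineq {n : ℕ} {ι : Type*} (P : ι → ι → Prop) (w : ι → Fin n → ℝ) (c : ℝ) :
    IsClosed {y : Fin n → ℝ | ∀ a b, P a b → (∑ k, w b k * y k) + c ≤ ∑ k, w a k * y k} := by
  simp only [Set.ofPred_forall]
  refine isClosed_iInter fun a => isClosed_iInter fun b => isClosed_iInter fun _ => ?_
  refine isClosed_le ?_ ?_
  · exact (continuous_finsetSum _ fun k _ => continuous_const.mul (continuous_apply k)).add continuous_const
  · exact continuous_finsetSum _ fun k _ => continuous_const.mul (continuous_apply k)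

end Cfsg.Agent.Lib.Helper77.BT

namespace Cfsg.Agent.Lib.Helper35.BT

open Cfsg Cfsg.Lie Cfsg.Agent.Lib.Helper18 Cfsg.Agent.Lib.Helper61.ChevJ Matrix

universe u

variable {D : ChevalleyDatum}

theorem isClosed_fil {F : Type u} [Field F] (X : JData.{u} D) (c : ℝ) (M : Matrix D.Idx D.Idx F) :
    IsClosed {y : Y D | Fil X y c M} :=
  Cfsg.Agent.Lib.Helper77.BT.isClosed_linear_ineq (fun a b => M a b ≠ 0) (fun a k => (wv X a k : ℝ)) c

theorem exists_min_Q (Bd : BTData.{u} D) (S : Set (Y D)) (hS : IsClosed S) (hne : S.Nonempty) :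
    ∃ y ∈ S, ∀ z ∈ S, Q Bd.X y ≤ Q Bd.X z := by
  refine Cfsg.Agent.Lib.Helper77.BT.exists_min_of_coercive (Q Bd.X) ?_ (fun y k => sq_le_Q Bd y k) S hS hne
  unfold Q om
  exact continuous_finsetSum _ fun r _ =>
    (continuous_finsetSum _ fun k _ => continuous_const.mul (continuous_apply k)).pow 2

end Cfsg.Agent.Lib.Helper35.BT
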